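/-
Iterated wreath products of groups of order two and their even parts.
-/
import Mathlib

set_option autoImplicit false

namespace CfsgLib.SymSylow.AltDecomp

open Equiv Equiv.Perm
open scoped commutatorElement

universe u

variable {α : Type u} [Fintype α] [DecidableEq α]

/-- The flip of two copies. -/
def flipCopies (α : Type u) : Perm (α ⊕ α) := Equiv.sumComm α α

omit [Fintype α] [DecidableEq α] in
theorem flipCopies_sq : flipCopies α * flipCopies α = 1 := Equiv.ext fun x => by cases x <;> rfl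

omit [Fintype α] [DecidableEq α] in
theorem flipCopies_sumCongr (u v : Perm α) :
    flipCopies α * Equiv.sumCongr u v = Equiv.sumCongr v u * flipCopies α :=
  Equiv.ext fun x => by cases x <;> rfl

omit [Fintype α] [DecidableEq α] in
theorem sumCongr_mul' (u v u' v' : Perm α) :
    (Equiv.sumCongr u v : Perm (α ⊕ α)) * Equiv.sumCongr u' v' = Equiv.sumCongr (u * u') (v * v') :=
  Equiv.ext fun x => by cases x <;> rfl

omit [Fintype α] [DecidableEq α] in
theorem sumCongr_inv' (u v : Perm α) :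
    (Equiv.sumCongr u v : Perm (α ⊕ α))⁻¹ = Equiv.sumCongr u⁻¹ v⁻¹ :=
  Equiv.ext fun x => by cases x <;> rfl

omit [Fintype α] [DecidableEq α] in
theorem sumCongr_inj' {u v u' v' : Perm α}
    (h : (Equiv.sumCongr u v : Perm (α ⊕ α)) = Equiv.sumCongr u' v') : u = u' ∧ v = v' :=
  ⟨Equiv.ext fun x => Sum.inl_injective (Equiv.congr_fun h (Sum.inl x)),
    Equiv.ext fun x => Sum.inr_injective (Equiv.congr_fun h (Sum.inr x))⟩

omit [Fintype α] [DecidableEq α] in
theorem sumCongr_ne_flip [Nonempty α] (u v u' v' : Perm α) :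
    (Equiv.sumCongr u v : Perm (α ⊕ α)) ≠ Equiv.sumCongr u' v' * flipCopies α := fun h => by
  have := Equiv.congr_fun h (Sum.inl (Classical.arbitrary α))
  simp [flipCopies] at this

theorem sign_flipCopies : sign (flipCopies α) = (-1) ^ Fintype.card α := by
  let e : α × Bool ≃ α ⊕ α := (Equiv.prodComm α Bool).trans (Equiv.boolProdEquivSum α)
  have h : flipCopies α = e.permCongr (Equiv.prodCongrRight fun _ => Equiv.swap false true) := by
    refine Equiv.ext fun x => ?_
    rcases x with x | x <;> simp [e, flipCopies, Equiv.permCongr_apply, Equiv.prodCongrRight]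
  rw [h, sign_permCongr, sign_prodCongrRight, Finset.prod_const, Finset.card_univ]
  rw [sign_swap (by decide)]

/-- The wreath product of `K` with a group of order two, on two copies. -/
def wrTwo (K : Subgroup (Perm α)) : Subgroup (Perm (α ⊕ α)) where
  carrier := {g | ∃ u ∈ K, ∃ v ∈ K, g = Equiv.sumCongr u v ∨ g = Equiv.sumCongr u v * flipCopies α}
  one_mem' := ⟨1, one_mem _, 1, one_mem _, Or.inl (Equiv.ext fun x => by cases x <;> rfl)⟩
  mul_mem' := by
    rintro g h ⟨a, ha, b, hb, hg⟩ ⟨a', ha', b', hb', hh⟩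
    rcases hg with rfl | rfl <;> rcases hh with rfl | rfl
    · exact ⟨_, mul_mem ha ha', _, mul_mem hb hb', Or.inl (sumCongr_mul' _ _ _ _)⟩
    · exact ⟨_, mul_mem ha ha', _, mul_mem hb hb', Or.inr (by rw [← mul_assoc, sumCongr_mul'])⟩
    · exact ⟨_, mul_mem ha hb', _, mul_mem hb ha', Or.inr (by
        rw [mul_assoc, flipCopies_sumCongr, ← mul_assoc, sumCongr_mul'])⟩
    · exact ⟨_, mul_mem ha hb', _, mul_mem hb ha', Or.inl (by
        rw [mul_assoc, ← mul_assoc (flipCopies α), flipCopies_sumCongr, mul_assoc, flipCopies_sq, mul_one,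
          sumCongr_mul'])⟩
  inv_mem' := by
    rintro h ⟨a, ha, b, hb, hh⟩
    rcases hh with rfl | rfl
    · exact ⟨_, inv_mem ha, _, inv_mem hb, Or.inl (sumCongr_inv' _ _)⟩
    · exact ⟨_, inv_mem hb, _, inv_mem ha, Or.inr (by
        rw [mul_inv_rev, inv_eq_of_mul_eq_one_right flipCopies_sq, sumCongr_inv', flipCopies_sumCongr])⟩

variable {K : Subgroup (Perm α)}

theorem sumCongr_mem {u v : Perm α} (hu : u ∈ K) (hv : v ∈ K) :
    (Equiv.sumCongr u v : Perm (α ⊕ α)) ∈ wrTwo K := ⟨u, hu, v, hv, Or.inl rfl⟩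

theorem flip_mem : flipCopies α ∈ wrTwo K :=
  ⟨1, one_mem _, 1, one_mem _, Or.inr (Equiv.ext fun x => by cases x <;> rfl)⟩

theorem card_wrTwo [Nonempty α] : Nat.card (wrTwo K) = 2 * Nat.card K ^ 2 := by
  rw [two_mul, pow_two, ← Nat.card_prod, ← Nat.card_sum]
  refine (Nat.card_congr (Equiv.ofBijective (fun s : (K × K) ⊕ (K × K) => match s with
    | Sum.inl p => (⟨Equiv.sumCongr p.1.1 p.2.1, sumCongr_mem p.1.2 p.2.2⟩ : wrTwo K)
    | Sum.inr p => ⟨Equiv.sumCongr p.1.1 p.2.1 * flipCopies α,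
        mul_mem (sumCongr_mem p.1.2 p.2.2) flip_mem⟩) ⟨?_, ?_⟩)).symm
  · rintro (⟨a, b⟩ | ⟨a, b⟩) (⟨c, d⟩ | ⟨c, d⟩) h <;> have h' := congrArg Subtype.val h <;>
      simp only at h'
    · exact congrArg Sum.inl (Prod.ext (Subtype.ext (sumCongr_inj' h').1) (Subtype.ext (sumCongr_inj' h').2))
    · exact absurd h' (sumCongr_ne_flip _ _ _ _)
    · exact absurd h'.symm (sumCongr_ne_flip _ _ _ _)
    · have h'' := mul_right_cancel h'
      exact congrArg Sum.inr (Prod.ext (Subtype.ext (sumCongr_inj' h'').1) (Subtype.ext (sumCongr_inj' h'').2))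
  · rintro ⟨x, a, ha, b, hb, rfl | rfl⟩
    · exact ⟨Sum.inl (⟨a, ha⟩, ⟨b, hb⟩), rfl⟩
    · exact ⟨Sum.inr (⟨a, ha⟩, ⟨b, hb⟩), rfl⟩

/-- The commutant of a set inside a subgroup is `{1, z}`. -/
def CenIs {G : Type*} [Group G] (Q : Subgroup G) (z : G) : Prop :=
  z ∈ Q ∧ z ≠ 1 ∧ z * z = 1 ∧ (∀ g ∈ Q, z * g = g * z) ∧ ∀ x ∈ Q, (∀ g ∈ Q, x * g = g * x) → x = 1 ∨ x = z

/-- No nontrivial central product decomposition. -/
def NoCentralSplit {G : Type*} [Group G] (Q : Subgroup G) : Prop :=
  ∀ A B : Subgroup G, A ⊔ B = Q → (∀ a ∈ A, ∀ b ∈ B, a * b = b * a) →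
    (∀ a ∈ A, ∀ g ∈ Q, a * g = g * a) ∨ (∀ b ∈ B, ∀ g ∈ Q, b * g = g * b)

theorem normal_of_sup {G : Type*} [Group G] {A B Q : Subgroup G} (h : A ⊔ B = Q)
    (hc : ∀ a ∈ A, ∀ b ∈ B, a * b = b * a) : ∀ g ∈ Q, ∀ b ∈ B, g * b * g⁻¹ ∈ B := by
  have hA : A ≤ Subgroup.normalizer (B : Set G) := by
    intro a ha
    rw [Subgroup.mem_normalizer_iff]
    intro b
    constructor
    · intro hb; rw [hc a ha b hb, mul_inv_cancel_right]; exact hb
    · intro hb
      have h2 := hc a ha _ hb
      have h3 : a * b * a⁻¹ = b := by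
        have := congrArg (fun t => a⁻¹ * t) h2
        simp only [inv_mul_cancel_left] at this
        rw [this]; group
      rwa [h3] at hb
  intro g hg b hb
  exact (Subgroup.mem_normalizer_iff.1 ((h ▸ sup_le hA Subgroup.le_normalizer : Q ≤ _) hg) b).1 hb

/-- A subgroup commuting with an element outside the base is central. -/
theorem central_of_outside [Nonempty α] {z : Perm α} (hz : CenIs K z) {A B : Subgroup (Perm (α ⊕ α))}
    (h : A ⊔ B = wrTwo K) (hc : ∀ a ∈ A, ∀ b ∈ B, a * b = b * a) {u v : Perm α} (_hu : u ∈ K) (_hv : v ∈ K)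
    (hx : Equiv.sumCongr u v * flipCopies α ∈ A) : ∀ b ∈ B, ∀ g ∈ wrTwo K, b * g = g * b := by
  set x := Equiv.sumCongr u v * flipCopies α with hxdef
  have hBQ : B ≤ wrTwo K := h ▸ le_sup_right
  have hn := normal_of_sup h hc
  -- elements of `B` in the base are central
  have hbase : ∀ p q : Perm α, p ∈ K → q ∈ K → (Equiv.sumCongr p q : Perm (α ⊕ α)) ∈ B →
      ∀ g ∈ wrTwo K, (Equiv.sumCongr p q : Perm (α ⊕ α)) * g = g * Equiv.sumCongr p q := by
    have hrel : ∀ p q : Perm α, (Equiv.sumCongr p q : Perm (α ⊕ α)) ∈ B → u * q = p * u := by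
      intro p q hb
      have e := hc x hx _ hb
      rw [hxdef, mul_assoc, flipCopies_sumCongr, ← mul_assoc, sumCongr_mul', ← mul_assoc, sumCongr_mul'] at e
      exact (sumCongr_inj' (mul_right_cancel e)).1
    intro p q hp hq hb
    have hpc : ∀ c ∈ K, p * c = c * p := by
      intro c hc'
      have hb' := hn _ (sumCongr_mem hc' (one_mem K)) _ hb
      rw [sumCongr_inv', sumCongr_mul', sumCongr_mul'] at hb'
      have e1 := hrel _ _ hb'
      rw [one_mul, inv_one, mul_one] at e1
      rw [hrel _ _ hb] at e1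
      have e2 : p = c * p * c⁻¹ := mul_right_cancel e1
      exact eq_mul_inv_iff_mul_eq.1 e2
    have hqc : ∀ c ∈ K, q * c = c * q := by
      intro c hc'
      have hb' := hn _ (sumCongr_mem (one_mem K) hc') _ hb
      rw [sumCongr_inv', sumCongr_mul', sumCongr_mul'] at hb'
      have e1 := hrel _ _ hb'
      rw [one_mul, inv_one, mul_one, ← hrel _ _ hb] at e1
      have e2 : c * q * c⁻¹ = q := mul_left_cancel e1
      exact (mul_inv_eq_iff_eq_mul.1 e2).symm
    have hq' : q = p := by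
      have h1 := hrel _ _ hb
      rw [hpc u _hu] at h1
      exact mul_left_cancel h1
    subst hq'
    rintro g ⟨c, hc', d, hd', rfl | rfl⟩
    · rw [sumCongr_mul', sumCongr_mul', hqc c hc', hqc d hd']
    · rw [← mul_assoc, sumCongr_mul', hqc c hc', hqc d hd', ← sumCongr_mul' c d q q, mul_assoc, mul_assoc,
        flipCopies_sumCongr]
  -- hence `B` is abelian and so central
  have hab : ∀ b ∈ B, ∀ b' ∈ B, b * b' = b' * b := by
    intro b hb b' hb'
    obtain ⟨p, hp, q, hq, rfl | rfl⟩ := hBQ hb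
    · exact hbase p q hp hq hb _ (hBQ hb')
    obtain ⟨p', hp', q', hq', rfl | rfl⟩ := hBQ hb'
    · exact (hbase p' q' hp' hq' hb' _ (hBQ hb)).symm
    · set b := Equiv.sumCongr p q * flipCopies α
      set b' := Equiv.sumCongr p' q' * flipCopies α
      have hmem : b' * b⁻¹ ∈ B := mul_mem hb' (inv_mem hb)
      have heq : b' * b⁻¹ = Equiv.sumCongr (p' * p⁻¹) (q' * q⁻¹) := by
        simp only [b, b', mul_inv_rev, sumCongr_inv']
        rw [mul_assoc, mul_inv_cancel_left, sumCongr_mul']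
      have hcom := hbase _ _ (mul_mem hp' (inv_mem hp)) (mul_mem hq' (inv_mem hq)) (heq ▸ hmem) _ (hBQ hb)
      rw [← heq, inv_mul_cancel_right, ← mul_assoc] at hcom
      exact (mul_inv_eq_iff_eq_mul.1 hcom.symm)
  intro b hb g hg
  have : g ∈ Subgroup.centralizer {b} :=
    (h ▸ sup_le (fun a ha => Subgroup.mem_centralizer_singleton_iff.2 (hc a ha b hb))
      (fun b' hb' => Subgroup.mem_centralizer_singleton_iff.2 (hab b' hb' b hb)) : wrTwo K ≤ _) hg
  exact (Subgroup.mem_centralizer_singleton_iff.1 this).symm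

theorem noCentralSplit_wrTwo [Nonempty α] {z : Perm α} (hz : CenIs K z) : NoCentralSplit (wrTwo K) := by
  intro A B h hc
  by_cases hA : ∃ u ∈ K, ∃ v ∈ K, Equiv.sumCongr u v * flipCopies α ∈ A
  · obtain ⟨u, hu, v, hv, hx⟩ := hA
    exact Or.inr (central_of_outside hz h hc hu hv hx)
  · push Not at hA
    left
    obtain ⟨u, hu, v, hv, hx⟩ : ∃ u ∈ K, ∃ v ∈ K, Equiv.sumCongr u v * flipCopies α ∈ B := by
      by_contra hB
      push Not at hB
      let base : Subgroup (Perm (α ⊕ α)) :=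
        (K.prod K).map (sumCongrHom α α)
      have hle : ∀ C : Subgroup (Perm (α ⊕ α)), C ≤ wrTwo K →
          (∀ u ∈ K, ∀ v ∈ K, Equiv.sumCongr u v * flipCopies α ∉ C) → C ≤ base := by
        intro C hC hn g hg
        obtain ⟨u, hu, v, hv, rfl | rfl⟩ := hC hg
        · exact ⟨(u, v), ⟨hu, hv⟩, rfl⟩
        · exact absurd hg (hn u hu v hv)
      have htop : flipCopies α ∈ base :=
        (h ▸ sup_le (hle A (h ▸ le_sup_left) hA) (hle B (h ▸ le_sup_right) hB) : wrTwo K ≤ base) flip_mem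
      obtain ⟨⟨a, b⟩, -, e⟩ := htop
      refine sumCongr_ne_flip a b (1 : Perm α) 1 (e.trans (Equiv.ext fun x => by cases x <;> rfl))
    exact central_of_outside hz (by rw [sup_comm]; exact h) (fun b hb a ha => (hc a ha b hb).symm) hu hv hx

theorem cenIs_wrTwo [Nonempty α] {z : Perm α} (hz : CenIs K z) :
    CenIs (wrTwo K) (Equiv.sumCongr z z) := by
  obtain ⟨hzK, hz1, hzz, hzc, hzu⟩ := hz
  refine ⟨sumCongr_mem hzK hzK, fun h => hz1 ?_, ?_, ?_, ?_⟩
  · exact (sumCongr_inj' (h.trans (Equiv.ext fun x => by cases x <;> rfl :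
      (1 : Perm (α ⊕ α)) = Equiv.sumCongr 1 1))).1
  · rw [sumCongr_mul', hzz]; exact Equiv.ext fun x => by cases x <;> rfl
  · rintro g ⟨c, hc', d, hd', rfl | rfl⟩
    · rw [sumCongr_mul', sumCongr_mul', hzc c hc', hzc d hd']
    · rw [← mul_assoc, sumCongr_mul', hzc c hc', hzc d hd', ← sumCongr_mul' c d z z, mul_assoc, mul_assoc,
        flipCopies_sumCongr]
  · intro x hx hcom
    obtain ⟨p, hp, q, hq, rfl | rfl⟩ := hx
    · have h1 : p = 1 ∨ p = z := hzu p hp fun c hc' => by
        have := hcom _ (sumCongr_mem hc' (one_mem K))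
        rw [sumCongr_mul', sumCongr_mul'] at this
        exact (sumCongr_inj' this).1
      have h2 : p = q := by
        have := hcom _ (flip_mem (K := K))
        rw [flipCopies_sumCongr] at this
        exact (sumCongr_inj' (mul_right_cancel this)).1
      subst h2
      rcases h1 with rfl | rfl
      · exact Or.inl (Equiv.ext fun x => by cases x <;> rfl)
      · exact Or.inr rfl
    · exfalso
      have := hcom _ (sumCongr_mem hzK (one_mem K))
      rw [mul_assoc, flipCopies_sumCongr, ← mul_assoc, sumCongr_mul', ← mul_assoc, sumCongr_mul', mul_one] at this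
      have h1 := (sumCongr_inj' (mul_right_cancel this)).1
      exact hz1 (mul_eq_right.1 h1.symm)

/-- The even part of the wreath product has centre of order at most two. -/
theorem even_cenIs [Nonempty α] {z : Perm α} (hz : CenIs K z) (he : Even (Fintype.card α))
    {c : Perm α} (hc : c ∈ K) (hc1 : c ≠ 1) (hcs : sign c = 1) :
    ∀ x ∈ wrTwo K, sign x = 1 → (∀ g ∈ wrTwo K, sign g = 1 → x * g = g * x) →
      x = 1 ∨ x = Equiv.sumCongr z z := by
  obtain ⟨hzK, hz1, hzz, hzc, hzu⟩ := hz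
  have hflip : sign (flipCopies α) = 1 := by rw [sign_flipCopies, he.neg_one_pow]
  intro x hx _ hcom
  obtain ⟨p, hp, q, hq, rfl | rfl⟩ := hx
  · have hd : ∀ d ∈ K, (Equiv.sumCongr p q : Perm (α ⊕ α)) * Equiv.sumCongr d d =
        Equiv.sumCongr d d * Equiv.sumCongr p q := fun d hd =>
      hcom _ (sumCongr_mem hd hd) (by rw [sign_sumCongr, Int.units_mul_self])
    have h2 : p = q := by
      have := hcom _ (flip_mem (K := K)) hflip
      rw [flipCopies_sumCongr] at this
      exact (sumCongr_inj' (mul_right_cancel this)).1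
    subst h2
    rcases hzu p hp (fun d hd' => by
      have := hd d hd'
      rw [sumCongr_mul', sumCongr_mul'] at this
      exact (sumCongr_inj' this).1) with rfl | rfl
    · exact Or.inl (Equiv.ext fun x => by cases x <;> rfl)
    · exact Or.inr rfl
  · exfalso
    have := hcom _ (sumCongr_mem hc (one_mem K)) (by rw [sign_sumCongr, hcs, map_one, one_mul])
    rw [mul_assoc, flipCopies_sumCongr, ← mul_assoc, sumCongr_mul', ← mul_assoc, sumCongr_mul', mul_one] at this
    have h1 := (sumCongr_inj' (mul_right_cancel this)).1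
    exact hc1 (mul_eq_right.1 h1.symm)

theorem center_mem_commutator [Nonempty α] {z : Perm α} (hz : CenIs K z) :
    (Equiv.sumCongr z z : Perm (α ⊕ α)) = ⁅(Equiv.sumCongr z 1 : Perm (α ⊕ α)), flipCopies α⁆ := by
  rw [commutatorElement_def, inv_eq_of_mul_eq_one_right flipCopies_sq, mul_assoc (Equiv.sumCongr z 1),
    sumCongr_inv', flipCopies_sumCongr, mul_assoc, mul_assoc, flipCopies_sq, mul_one, sumCongr_mul',
    inv_one, mul_one, one_mul, inv_eq_of_mul_eq_one_right hz.2.2.1]

/-- A block: an iterated wreath product with its sign. -/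
structure GoodBlock (Q : Subgroup (Perm α)) : Prop where
  odd_mem : ∃ t ∈ Q, sign t = -1
  split : NoCentralSplit Q
  center : ∃ z, CenIs Q z ∧ sign z = 1 ∧ ∃ a ∈ Q, ∃ b ∈ Q, z = ⁅a, b⁆

/-- The invariant carried along the recursion. -/
structure StepData (K : Subgroup (Perm α)) : Prop where
  center : ∃ z, CenIs K z
  odd_mem : ∃ t ∈ K, sign t = -1
  even_card : Even (Fintype.card α)

theorem goodBlock_wrTwo [Nonempty α] (d : StepData K) : GoodBlock (wrTwo K) := by
  obtain ⟨z, hz⟩ := d.center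
  obtain ⟨t, ht, hts⟩ := d.odd_mem
  refine ⟨⟨Equiv.sumCongr t 1, sumCongr_mem ht (one_mem K), by rw [sign_sumCongr, hts, map_one, mul_one]⟩,
    noCentralSplit_wrTwo hz, _, cenIs_wrTwo hz, by rw [sign_sumCongr, Int.units_mul_self],
    _, sumCongr_mem hz.1 (one_mem K), _, flip_mem, center_mem_commutator hz⟩

theorem stepData_wrTwo [Nonempty α] (d : StepData K) : StepData (wrTwo K) := by
  obtain ⟨z, hz⟩ := d.center
  obtain ⟨t, ht, hts⟩ := d.odd_mem
  exact ⟨⟨_, cenIs_wrTwo hz⟩, ⟨Equiv.sumCongr t 1, sumCongr_mem ht (one_mem K),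
    by rw [sign_sumCongr, hts, map_one, mul_one]⟩, by rw [Fintype.card_sum]; exact d.even_card.add d.even_card⟩

end CfsgLib.SymSylow.AltDecomp
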