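/-
Even parts of products of blocks are directly indecomposable.
-/
import Cfsg.Agent.Lib.PGroup.Basic
import Mathlib

set_option autoImplicit false

namespace CfsgLib.SymSylow.AltDecomp

open scoped commutatorElement

/-- Direct decomposability. -/
def Decomposable (G : Type*) [Group G] : Prop :=
  ∃ S₁ S₂ : Subgroup G, S₁ ≠ ⊥ ∧ S₂ ≠ ⊥ ∧ (∀ a ∈ S₁, ∀ b ∈ S₂, a * b = b * a) ∧ S₁ ⊓ S₂ = ⊥ ∧ S₁ ⊔ S₂ = ⊤

theorem Decomposable.of_equiv {G H : Type*} [Group G] [Group H] (e : G ≃* H) (h : Decomposable G) :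
    Decomposable H := by
  obtain ⟨A, B, hA, hB, hc, hi, hs⟩ := h
  refine ⟨A.map e.toMonoidHom, B.map e.toMonoidHom,
    fun h => hA ((Subgroup.map_eq_bot_iff_of_injective _ e.injective).1 h),
    fun h => hB ((Subgroup.map_eq_bot_iff_of_injective _ e.injective).1 h), ?_, ?_, ?_⟩
  · rintro _ ⟨a, ha, rfl⟩ _ ⟨b, hb, rfl⟩
    show e a * e b = e b * e a
    rw [← map_mul, hc a ha b hb, map_mul]
  · rw [← Subgroup.map_inf _ _ _ e.injective, hi, Subgroup.map_bot]
  · rw [← Subgroup.map_sup, hs, Subgroup.map_top_of_surjective _ e.surjective]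

theorem decomposable_congr {G H : Type*} [Group G] [Group H] (e : G ≃* H) : Decomposable G ↔ Decomposable H :=
  ⟨Decomposable.of_equiv e, Decomposable.of_equiv e.symm⟩

theorem mem_centre_of_commuting {G : Type*} [Group G] {A B : Subgroup G} (hs : A ⊔ B = ⊤)
    (hc : ∀ a ∈ A, ∀ b ∈ B, a * b = b * a) {a : G} (ha : a ∈ A) (hab : ∀ a' ∈ A, a * a' = a' * a) :
    a ∈ Subgroup.center G := by
  rw [Subgroup.mem_center_iff]
  intro g
  have h : A ⊔ B ≤ Subgroup.centralizer {a} := sup_le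
    (fun a' ha' => Subgroup.mem_centralizer_singleton_iff.2 (hab a' ha').symm)
    (fun b hb => Subgroup.mem_centralizer_singleton_iff.2 (hc a ha b hb).symm)
  exact Subgroup.mem_centralizer_singleton_iff.1 (h (hs ▸ Subgroup.mem_top g))

/-- A small centre forbids a decomposition. -/
theorem not_decomposable_of_center {p : ℕ} [Fact p.Prime] {G : Type*} [Group G] [Finite G] (hG : IsPGroup p G)
    (z : G) (hz : ∀ x ∈ Subgroup.center G, x = 1 ∨ x = z) : ¬ Decomposable G := by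
  rintro ⟨A, B, hA, hB, hc, hi, hs⟩
  have key : ∀ A B : Subgroup G, A ≠ ⊥ → A ⊔ B = ⊤ → (∀ a ∈ A, ∀ b ∈ B, a * b = b * a) →
      ∃ a ∈ A, a ≠ 1 ∧ a = z := by
    intro A B hA hs hc
    haveI : A.Normal := by
      constructor
      intro a ha g
      have h : A ⊔ B ≤ Subgroup.normalizer (A : Set G) := sup_le Subgroup.le_normalizer fun b hb => by
        rw [Subgroup.mem_normalizer_iff]
        intro x
        constructor
        · intro hx; rw [← hc x hx b hb, mul_inv_cancel_right]; exact hx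
        · intro hx
          have h2 := hc _ hx b hb
          have h3 : b * x * b⁻¹ = x := by
            rw [inv_mul_cancel_right] at h2
            exact (mul_left_cancel h2).symm
          rwa [h3] at hx
      exact (Subgroup.mem_normalizer_iff.1 (h (hs ▸ Subgroup.mem_top g)) a).1 ha
    obtain ⟨⟨a, ha, hac⟩, ha1⟩ := Subgroup.ne_bot_iff_exists_ne_one.1 (CfsgLib.PGroup.inf_center_ne_bot hG A hA)
    have ha1' : a ≠ 1 := fun h => ha1 (Subtype.ext h)
    exact ⟨a, ha, ha1', (hz a hac).resolve_left ha1'⟩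
  obtain ⟨a, ha, ha1, rfl⟩ := key A B hA hs hc
  obtain ⟨b, hb, -, rfl⟩ := key B A hB (by rw [sup_comm]; exact hs) (fun b hb a ha => (hc a ha b hb).symm)
  exact ha1 (Subgroup.mem_bot.1 (hi ▸ (⟨ha, hb⟩ : b ∈ A ⊓ B)))

variable {ι : Type*} [Fintype ι] [DecidableEq ι] {G : ι → Type*} [∀ i, Group (G i)]

/-- A product of at least two nontrivial groups. -/
theorem decomposable_pi [Nontrivial ι] (h : ∀ i, Nontrivial (G i)) : Decomposable (∀ i, G i) := by
  obtain ⟨i, j, hij⟩ := exists_pair_ne ι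
  let A : Subgroup (∀ k, G k) := (MonoidHom.mulSingle G i).range
  let B : Subgroup (∀ k, G k) := (Pi.evalMonoidHom G i).ker
  have hAsupp : ∀ (x : G i) k, k ≠ i → (MonoidHom.mulSingle G i x) k = 1 := fun x k hk => by
    simp [hk]
  refine ⟨A, B, fun e => ?_, fun e => ?_, ?_, ?_, ?_⟩
  · obtain ⟨x, hx⟩ := exists_ne (1 : G i)
    refine hx ?_
    have := (Subgroup.eq_bot_iff_forall A).1 e _ ⟨x, rfl⟩
    simpa using congrFun this i
  · obtain ⟨x, hx⟩ := exists_ne (1 : G j)
    refine hx ?_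
    have := (Subgroup.eq_bot_iff_forall B).1 e (Pi.mulSingle j x) (by
      show Pi.mulSingle j x i = 1
      simp [hij])
    simpa using congrFun this j
  · rintro _ ⟨x, rfl⟩ b hb
    funext k
    by_cases hk : k = i
    · subst hk
      have : b k = 1 := hb
      simp [this]
    · simp [hk]
  · rw [Subgroup.eq_bot_iff_forall]
    rintro _ ⟨⟨x, rfl⟩, hb⟩
    have hx : x = 1 := by simpa [B, Pi.evalMonoidHom] using hb
    rw [hx, map_one]
  · rw [Subgroup.eq_top_iff']
    intro g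
    have h2 : (MonoidHom.mulSingle G i (g i))⁻¹ * g ∈ B := by
      show ((MonoidHom.mulSingle G i (g i))⁻¹ * g) i = 1
      simp
    have := mul_mem (Subgroup.mem_sup_left (S := A) (T := B) ⟨g i, rfl⟩) (Subgroup.mem_sup_right h2)
    rwa [mul_inv_cancel_left] at this

/-- The product of the signs. -/
noncomputable def prodSign (s : ∀ i, G i →* ℤˣ) : (∀ i, G i) →* ℤˣ :=
  ∏ i, (s i).comp (Pi.evalMonoidHom G i)

theorem prodSign_apply (s : ∀ i, G i →* ℤˣ) (x : ∀ i, G i) : prodSign s x = ∏ i, s i (x i) := by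
  simp [prodSign]

theorem prodSign_single (s : ∀ i, G i →* ℤˣ) (i : ι) (x : G i) : prodSign s (Pi.mulSingle i x) = s i x := by
  rw [prodSign_apply, Finset.prod_eq_single i]
  · simp
  · intro k _ hk; simp [hk]
  · simp

/-- The even part of a product of at least two blocks. -/
theorem not_decomposable_ker [Nontrivial ι] (s : ∀ i, G i →* ℤˣ) (hodd : ∀ i, ∃ t, s i t = -1)
    (hsplit : ∀ i, ∀ A B : Subgroup (G i), A ⊔ B = ⊤ → (∀ a ∈ A, ∀ b ∈ B, a * b = b * a) →
      A ≤ Subgroup.center (G i) ∨ B ≤ Subgroup.center (G i))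
    (hcen : ∀ i, ∃ z : G i, (∀ x ∈ Subgroup.center (G i), x = 1 ∨ x = z) ∧ s i z = 1 ∧
      ∃ a b : G i, z = ⁅a, b⁆) : ¬ Decomposable (prodSign s).ker := by
  rintro ⟨S₁, S₂, h1, h2, hc, hi, hs⟩
  choose z hz hzs ca cb hzc using hcen
  choose t ht using hodd
  let π : ∀ i, (prodSign s).ker →* G i := fun i => (Pi.evalMonoidHom G i).comp (prodSign s).ker.subtype
  have hlift : ∀ (i : ι) (x : G i), ∃ j, j ≠ i ∧ ∃ e : ℤˣ, ∃ w : (prodSign s).ker,
      (e = 1 ∧ (w : ∀ k, G k) = Pi.mulSingle i x) ∨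
        (e = -1 ∧ (w : ∀ k, G k) = Pi.mulSingle i x * Pi.mulSingle j (t j)) := by
    intro i x
    obtain ⟨j, hj⟩ := exists_ne i
    rcases Int.units_eq_one_or (s i x) with e | e
    · exact ⟨j, hj, 1, ⟨_, (prodSign_single s i x).trans e⟩, Or.inl ⟨rfl, rfl⟩⟩
    · exact ⟨j, hj, -1, ⟨Pi.mulSingle i x * Pi.mulSingle j (t j), by
        rw [MonoidHom.mem_ker, map_mul, prodSign_single, prodSign_single, e, ht]; rfl⟩, Or.inr ⟨rfl, rfl⟩⟩
  have hsurj : ∀ i, Function.Surjective (π i) := by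
    intro i x
    obtain ⟨j, hj, e, w, ⟨-, hw⟩ | ⟨-, hw⟩⟩ := hlift i x
    · exact ⟨w, by show (w : ∀ k, G k) i = x; rw [hw]; simp⟩
    · exact ⟨w, by show (w : ∀ k, G k) i = x; rw [hw]; simp [hj.symm]⟩
  have hor : ∀ i, S₁.map (π i) ≤ Subgroup.center (G i) ∨ S₂.map (π i) ≤ Subgroup.center (G i) := fun i =>
    hsplit i _ _ (by rw [← Subgroup.map_sup, hs, Subgroup.map_top_of_surjective _ (hsurj i)])
      (by rintro _ ⟨a, ha, rfl⟩ _ ⟨b, hb, rfl⟩; rw [← map_mul, hc a ha b hb, map_mul])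
  -- products of central elements of the blocks are commutators in the kernel
  have hcomm : ∀ i, ∃ w ∈ commutator (prodSign s).ker, (w : ∀ k, G k) = Pi.mulSingle i (z i) := by
    intro i
    obtain ⟨j, hj⟩ := exists_ne i
    have hw : ∀ x : G i, ∃ y : G j, (∃ n : ℕ, y = t j ^ n) ∧ Pi.mulSingle i x * Pi.mulSingle j y ∈ (prodSign s).ker := by
      intro x
      rcases Int.units_eq_one_or (s i x) with e | e
      · exact ⟨1, ⟨0, (pow_zero _).symm⟩, by rw [MonoidHom.mem_ker, map_mul, prodSign_single, prodSign_single, e, map_one, one_mul]⟩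
      · exact ⟨t j, ⟨1, (pow_one _).symm⟩, by rw [MonoidHom.mem_ker, map_mul, prodSign_single, prodSign_single, e, ht]; rfl⟩
    obtain ⟨ya, ⟨na, rfl⟩, hya⟩ := hw (ca i)
    obtain ⟨yb, ⟨nb, rfl⟩, hyb⟩ := hw (cb i)
    refine ⟨⁅(⟨_, hya⟩ : (prodSign s).ker), ⟨_, hyb⟩⁆,
      Subgroup.commutator_mem_commutator (Subgroup.mem_top _) (Subgroup.mem_top _), ?_⟩
    funext k
    simp only [commutatorElement_def, Subgroup.coe_mul, Subgroup.coe_inv, Pi.mul_apply, Pi.inv_apply]
    by_cases hki : k = i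
    · subst hki
      simp [hj.symm, hzc, commutatorElement_def]
    · by_cases hkj : k = j
      · subst hkj
        simp only [Pi.mulSingle_eq_same, Pi.mulSingle_eq_of_ne hj, one_mul]
        have h := (Commute.pow_pow_self (t k) na nb).eq
        rw [h]; group
      · simp [hki, hkj]
  have hmid : ∀ A B : Subgroup (prodSign s).ker, A ⊔ B = ⊤ → (∀ a ∈ A, ∀ b ∈ B, a * b = b * a) →
      (∀ i, B.map (π i) ≤ Subgroup.center (G i)) → B ≤ A := by
    intro A B hAB hcAB hB b hb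
    have hBc : ∀ b' ∈ B, ∀ g : (prodSign s).ker, g * b' = b' * g := fun b' hb' g => Subtype.ext (funext fun i =>
      Subgroup.mem_center_iff.1 (hB i ⟨b', hb', rfl⟩) ((g : ∀ k, G k) i))
    have hA : commutator (prodSign s).ker ≤ A := by
      rw [commutator_def, Subgroup.commutator_le]
      intro g _ g' _
      haveI : B.Normal := ⟨fun x hx g => by rw [hBc x hx g, mul_inv_cancel_right]; exact hx⟩
      have hg : g ∈ A ⊔ B := hAB ▸ Subgroup.mem_top g
      have hg' : g' ∈ A ⊔ B := hAB ▸ Subgroup.mem_top g'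
      rw [Subgroup.mem_sup_of_normal_right] at hg hg'
      obtain ⟨a, ha, x, hx, rfl⟩ := hg
      obtain ⟨a', ha', x', hx', rfl⟩ := hg'
      have e : ⁅a * x, a' * x'⁆ = ⁅a, a'⁆ := by
        have hx1 : ∀ q, Commute x q := fun q => (hBc x hx q).symm
        have hx2 : ∀ q, Commute x' q := fun q => (hBc x' hx' q).symm
        rw [commutatorElement_def, commutatorElement_def]
        calc a * x * (a' * x') * (a * x)⁻¹ * (a' * x')⁻¹
            = a * (x * a') * x' * x⁻¹ * a⁻¹ * x'⁻¹ * a'⁻¹ := by group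
          _ = a * a' * (x * x') * x⁻¹ * a⁻¹ * x'⁻¹ * a'⁻¹ := by rw [(hx1 a').eq]; group
          _ = a * a' * (x' * a⁻¹) * x'⁻¹ * a'⁻¹ := by rw [(hx1 x').eq]; group
          _ = _ := by rw [(hx2 a⁻¹).eq]; group
      rw [e, commutatorElement_def]
      exact mul_mem (mul_mem (mul_mem ha ha') (inv_mem ha)) (inv_mem ha')
    have hmem : (b : ∀ k, G k) ∈ A.map (prodSign s).ker.subtype := by
      refine Subgroup.pi_mem_of_mulSingle_mem _ fun i => ?_
      rcases hz i _ (hB i ⟨b, hb, rfl⟩) with e | e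
      · rw [show (b : ∀ k, G k) i = 1 from e, Pi.mulSingle_one]; exact one_mem _
      · obtain ⟨w, hw, hwe⟩ := hcomm i
        rw [show (b : ∀ k, G k) i = z i from e, ← hwe]
        exact ⟨w, hA hw, rfl⟩
    obtain ⟨a, ha, e⟩ := hmem
    exact Subtype.ext e ▸ ha
  classical
  by_cases hall : ∀ i, S₂.map (π i) ≤ Subgroup.center (G i)
  · exact h2 (le_bot_iff.1 (hi ▸ le_inf (hmid S₁ S₂ hs hc hall) le_rfl))
  by_cases hall' : ∀ i, S₁.map (π i) ≤ Subgroup.center (G i)
  · exact h1 (le_bot_iff.1 (hi ▸ le_inf le_rfl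
      (hmid S₂ S₁ (by rw [sup_comm]; exact hs) (fun b hb a ha => (hc a ha b hb).symm) hall')))
  push Not at hall hall'
  obtain ⟨j, hj⟩ := hall
  obtain ⟨i, hi'⟩ := hall'
  let I₁ : Finset ι := Finset.univ.filter fun k => S₂.map (π k) ≤ Subgroup.center (G k)
  have hiI : i ∈ I₁ := by simp [I₁, (hor i).resolve_left hi']
  have hjI : j ∉ I₁ := by simp [I₁, hj]
  have heven : ∀ k (S : Subgroup (prodSign s).ker), S.map (π k) ≤ Subgroup.center (G k) →
      ∀ x ∈ S, s k ((x : ∀ l, G l) k) = 1 := by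
    intro k S hS x hx
    rcases hz k _ (hS ⟨x, hx, rfl⟩) with e | e
    · rw [show (x : ∀ l, G l) k = 1 from e, map_one]
    · rw [show (x : ∀ l, G l) k = z k from e, hzs]
  let Φ : (prodSign s).ker →* ℤˣ := ∏ k ∈ I₁, (s k).comp (π k)
  have hΦ : ∀ x, Φ x = ∏ k ∈ I₁, s k ((x : ∀ l, G l) k) := fun x => by simp [Φ, π]
  have hker : ∀ x, Φ x = 1 := by
    have hle : S₁ ⊔ S₂ ≤ Φ.ker := by
      refine sup_le (fun x hx => ?_) (fun x hx => ?_)
      · rw [MonoidHom.mem_ker, hΦ]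
        have h := x.2
        rw [MonoidHom.mem_ker, prodSign_apply, ← Finset.prod_mul_prod_compl I₁] at h
        rwa [Finset.prod_eq_one (s := I₁ᶜ) (fun k hk => ?_), mul_one] at h
        refine heven k S₁ ((hor k).resolve_right fun h' => ?_) x hx
        exact Finset.mem_compl.1 hk (by simp [I₁, h'])
      · rw [MonoidHom.mem_ker, hΦ]
        exact Finset.prod_eq_one fun k hk => heven k S₂ (by simpa [I₁] using hk) x hx
    exact fun x => hle (hs ▸ Subgroup.mem_top x)
  have hne : i ≠ j := fun e => hjI (e ▸ hiI)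
  have := hker ⟨Pi.mulSingle i (t i) * Pi.mulSingle j (t j), by
    rw [MonoidHom.mem_ker, map_mul, prodSign_single, prodSign_single, ht, ht]; rfl⟩
  rw [hΦ, Finset.prod_eq_single i] at this
  · simp [hne, ht] at this
  · intro k hk hki
    show s k ((Pi.mulSingle i (t i) * Pi.mulSingle j (t j) : ∀ l, G l) k) = 1
    rw [Pi.mul_apply, Pi.mulSingle_eq_of_ne hki, Pi.mulSingle_eq_of_ne (fun e : k = j => hjI (e ▸ hk)), one_mul,
      map_one]
  · exact fun h => absurd hiI h

end CfsgLib.SymSylow.AltDecomp
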