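/-
The tower of iterated wreath products on `2 ^ a` points.
-/
import Cfsg.Agent.Lib.SymSylow.AltDecomp.Block
import Cfsg.Agent.Lib.SymSylow.NilpotentPerm.Arith

set_option autoImplicit false

namespace CfsgLib.SymSylow.AltDecomp

open Equiv Equiv.Perm
open scoped commutatorElement
open CfsgLib.SymSylow.NilPerm (twoExp twoExp_zero twoExp_even twoExp_odd)

theorem twoExp_add_bits (n : ℕ) : twoExp n + n.bitIndices.length = n := by
  induction n using Nat.strong_induction_on with
  | _ n ih =>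
    rcases Nat.eq_zero_or_pos n with rfl | hn
    · simp [twoExp_zero]
    obtain ⟨m, rfl | rfl⟩ : ∃ m, n = 2 * m ∨ n = 2 * m + 1 := ⟨n / 2, by omega⟩
    · have := ih m (by omega)
      rw [twoExp_even, Nat.bitIndices_two_mul, List.length_map]
      omega
    · have := ih m (by omega)
      rw [twoExp_odd, twoExp_even, Nat.bitIndices_two_mul_add_one, List.length_cons, List.length_map]
      omega

theorem twoExp_two_pow (a : ℕ) : twoExp (2 ^ a) + 1 = 2 ^ a := by
  have := twoExp_add_bits (2 ^ a)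
  rwa [Nat.bitIndices_two_pow, List.length_singleton] at this

section transport

universe u v
variable {α : Type u} [Fintype α] [DecidableEq α] {β : Type v} [Fintype β] [DecidableEq β]
variable {G : Type u} [Group G] {H : Type v} [Group H]

theorem CenIs.map {Q : Subgroup G} {z : G} (h : CenIs Q z) (f : G ≃* H) :
    CenIs (Q.map f.toMonoidHom) (f z) := by
  obtain ⟨h1, h2, h3, h4, h5⟩ := h
  refine ⟨⟨z, h1, rfl⟩, fun e => h2 (f.injective (e.trans (map_one f).symm)), by rw [← map_mul, h3, map_one], ?_, ?_⟩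
  · rintro _ ⟨g, hg, rfl⟩
    show f z * f g = f g * f z
    rw [← map_mul, h4 g hg, map_mul]
  · rintro _ ⟨x, hx, rfl⟩ hcom
    rcases h5 x hx (fun g hg => f.injective (by rw [map_mul, map_mul]; exact hcom _ ⟨g, hg, rfl⟩)) with rfl | rfl
    · exact Or.inl (map_one _)
    · exact Or.inr rfl

theorem NoCentralSplit.map {Q : Subgroup G} (h : NoCentralSplit Q) (f : G ≃* H) :
    NoCentralSplit (Q.map f.toMonoidHom) := by
  intro A B hAB hc
  have e : A.comap f.toMonoidHom ⊔ B.comap f.toMonoidHom = Q := by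
    rw [Subgroup.comap_sup_eq _ _ _ f.surjective, hAB, Subgroup.comap_map_eq_self_of_injective f.injective]
  have := h _ _ e fun a ha b hb => f.injective (by rw [map_mul, map_mul]; exact hc _ ha _ hb)
  rcases this with h' | h'
  · refine Or.inl fun a ha => ?_
    obtain ⟨x, rfl⟩ := f.surjective a
    rintro _ ⟨g, hg, rfl⟩
    show f x * f g = f g * f x
    rw [← map_mul, h' x ha g hg, map_mul]
  · refine Or.inr fun a ha => ?_
    obtain ⟨x, rfl⟩ := f.surjective a
    rintro _ ⟨g, hg, rfl⟩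
    show f x * f g = f g * f x
    rw [← map_mul, h' x ha g hg, map_mul]

theorem StepData.map {K : Subgroup (Perm α)} (d : StepData K) (e : α ≃ β) :
    StepData (K.map e.permCongrHom.toMonoidHom) := by
  obtain ⟨z, hz⟩ := d.center
  obtain ⟨t, ht, hts⟩ := d.odd_mem
  exact ⟨⟨_, hz.map e.permCongrHom⟩, ⟨_, ⟨t, ht, rfl⟩, (sign_permCongr e t).trans hts⟩,
    Fintype.card_congr e ▸ d.even_card⟩

theorem GoodBlock.map {Q : Subgroup (Perm α)} (d : GoodBlock Q) (e : α ≃ β) :
    GoodBlock (Q.map e.permCongrHom.toMonoidHom) := by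
  obtain ⟨z, hz, hzs, a, ha, b, hb, rfl⟩ := d.center
  obtain ⟨t, ht, hts⟩ := d.odd_mem
  exact ⟨⟨_, ⟨t, ht, rfl⟩, (sign_permCongr e t).trans hts⟩, d.split.map e.permCongrHom, _, hz.map e.permCongrHom,
    (sign_permCongr e _).trans hzs, _, ⟨a, ha, rfl⟩, _, ⟨b, hb, rfl⟩, map_commutatorElement e.permCongrHom a b⟩

end transport

/-- Two halves. -/
def halves (a : ℕ) : Fin (2 ^ a) ⊕ Fin (2 ^ a) ≃ Fin (2 ^ (a + 1)) :=
  finSumFinEquiv.trans (finCongr (by rw [pow_succ]; omega))

/-- The iterated wreath product on `2 ^ a` points. -/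
def tower : (a : ℕ) → Subgroup (Perm (Fin (2 ^ a)))
  | 0 => ⊤
  | a + 1 => (wrTwo (tower a)).map (halves a).permCongrHom.toMonoidHom

instance (a : ℕ) : Nonempty (Fin (2 ^ a)) := ⟨⟨0, Nat.two_pow_pos a⟩⟩

theorem card_tower (a : ℕ) : Nat.card (tower a) = 2 ^ twoExp (2 ^ a) := by
  induction a with
  | zero =>
    have h0 := twoExp_two_pow 0
    have h : twoExp (2 ^ 0) = 0 := by simp only [pow_zero] at h0 ⊢; omega
    rw [h, tower, Subgroup.card_top, Nat.card_perm, Nat.card_fin]
    rfl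
  | succ a ih =>
    rw [tower, Subgroup.card_map_of_injective (halves a).permCongrHom.injective, card_wrTwo, ih, ← pow_mul, ← pow_succ']
    congr 1
    have h1 := twoExp_two_pow a
    have h2 := twoExp_two_pow (a + 1)
    rw [pow_succ] at h2 ⊢
    omega

theorem stepData_tower : ∀ a, StepData (tower (a + 1))
  | 0 => by
    have hsub : ∀ u : Perm (Fin (2 ^ 0)), u = 1 := fun u =>
      haveI : Subsingleton (Fin (2 ^ 0)) := Fin.subsingleton_iff_le_one.2 le_rfl
      Subsingleton.elim _ _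
    have hone : (Equiv.sumCongr 1 1 : Perm (Fin (2 ^ 0) ⊕ Fin (2 ^ 0))) = 1 := Equiv.ext fun x => by cases x <;> rfl
    have d : StepData (wrTwo (tower 0)) := by
      refine ⟨⟨flipCopies _, flip_mem, fun h => ?_, flipCopies_sq, ?_, ?_⟩,
        ⟨flipCopies _, flip_mem, by rw [sign_flipCopies, Fintype.card_fin]; rfl⟩,
        by rw [Fintype.card_sum]; exact ⟨_, rfl⟩⟩
      · have := Equiv.congr_fun h (Sum.inl 0)
        simp [flipCopies] at this
      · rintro g ⟨u, -, v, -, rfl | rfl⟩ <;> rw [hsub u, hsub v, hone] <;> simp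
      · rintro g ⟨u, -, v, -, rfl | rfl⟩ - <;> rw [hsub u, hsub v, hone]
        · exact Or.inl rfl
        · exact Or.inr (one_mul _)
    exact d.map (halves 0)
  | a + 1 => (stepData_wrTwo (stepData_tower a)).map (halves (a + 1))

theorem goodBlock_tower {a : ℕ} (ha : 2 ≤ a) : GoodBlock (tower a) := by
  obtain ⟨b, rfl⟩ : ∃ b, a = b + 2 := ⟨a - 2, by omega⟩
  exact (goodBlock_wrTwo (stepData_tower b)).map (halves (b + 1))

/-- The even part of a large block has centre of order two. -/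
theorem even_center_tower {a : ℕ} (ha : 3 ≤ a) :
    ∃ z, ∀ x ∈ tower a, sign x = 1 → (∀ g ∈ tower a, sign g = 1 → x * g = g * x) → x = 1 ∨ x = z := by
  obtain ⟨b, rfl⟩ : ∃ b, a = b + 1 := ⟨a - 1, by omega⟩
  obtain ⟨c, hc, hcs, -⟩ := (goodBlock_tower (show 2 ≤ b by omega)).center
  have he : Even (Fintype.card (Fin (2 ^ b))) := by
    rw [Fintype.card_fin, Nat.even_pow]; exact ⟨even_two, by omega⟩
  refine ⟨(halves b).permCongrHom (Equiv.sumCongr c c), ?_⟩
  rintro _ ⟨x, hx, rfl⟩ hxs hcom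
  rcases even_cenIs hc he hc.1 hc.2.1 hcs x hx ((sign_permCongr _ x).symm.trans hxs) (fun g hg hgs =>
    (halves b).permCongrHom.injective (by
      rw [map_mul, map_mul]
      exact hcom _ ⟨g, hg, rfl⟩ ((sign_permCongr _ g).trans hgs))) with rfl | rfl
  · exact Or.inl (map_one _)
  · exact Or.inr rfl

end CfsgLib.SymSylow.AltDecomp
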