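/-
Direct decomposability of the Sylow 2-subgroups of alternating groups.
-/
import Cfsg.Agent.Lib.SymSylow.AltDecomp.Tower
import Cfsg.Agent.Lib.SymSylow.AltDecomp.Product
import Cfsg.Agent.Lib.SymSylow.NilpotentPerm.Unique
import Cfsg.Prelude.Def_TwoFusion

set_option autoImplicit false

namespace CfsgLib.SymSylow.AltDecomp

open Equiv Equiv.Perm
open scoped commutatorElement
open CfsgLib.SymSylow.NilPerm (twoExp twoExp_zero twoExp_one)

theorem internal_iff {G : Type*} [Group G] (P : Subgroup G) :
    (∃ S₁ S₂ : Subgroup G, S₁ ≠ ⊥ ∧ S₂ ≠ ⊥ ∧ Cfsg.IsInternalDirectProduct S₁ S₂ P) ↔ Decomposable P := by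
  constructor
  · rintro ⟨A, B, hA, hB, hAP, hBP, hc, hi, hs⟩
    refine ⟨A.subgroupOf P, B.subgroupOf P, fun h => hA ?_, fun h => hB ?_,
      fun a ha b hb => Subtype.ext (hc _ ha _ hb), ?_, ?_⟩
    · rw [Subgroup.subgroupOf_eq_bot, disjoint_iff] at h; rwa [inf_eq_left.2 hAP] at h
    · rw [Subgroup.subgroupOf_eq_bot, disjoint_iff] at h; rwa [inf_eq_left.2 hBP] at h
    · rw [Subgroup.eq_bot_iff_forall]
      rintro x ⟨hxA, hxB⟩
      exact Subtype.ext (Subgroup.mem_bot.1 (hi ▸ (⟨hxA, hxB⟩ : (x : G) ∈ A ⊓ B)))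
    · refine Subgroup.map_injective P.subtype_injective ?_
      rw [Subgroup.map_sup, Subgroup.map_subgroupOf_eq_of_le hAP, Subgroup.map_subgroupOf_eq_of_le hBP, hs,
        ← MonoidHom.range_eq_map, Subgroup.range_subtype]
  · rintro ⟨A, B, hA, hB, hc, hi, hs⟩
    refine ⟨A.map P.subtype, B.map P.subtype,
      fun h => hA ((Subgroup.map_eq_bot_iff_of_injective _ P.subtype_injective).1 h),
      fun h => hB ((Subgroup.map_eq_bot_iff_of_injective _ P.subtype_injective).1 h),
      Subgroup.map_subtype_le _, Subgroup.map_subtype_le _, ?_, ?_, ?_⟩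
    · rintro _ ⟨a, ha, rfl⟩ _ ⟨b, hb, rfl⟩; exact congrArg Subtype.val (hc a ha b hb)
    · rw [← Subgroup.map_inf _ _ _ P.subtype_injective, hi, Subgroup.map_bot]
    · rw [← Subgroup.map_sup, hs, ← MonoidHom.range_eq_map, Subgroup.range_subtype]

/-- Degrees 4 and 5. -/
theorem decomposable_small {n : ℕ} (hn : n = 4 ∨ n = 5) (P : Sylow 2 (alternatingGroup (Fin n))) :
    Decomposable (P : Subgroup (alternatingGroup (Fin n))) := by
  have hc : Nat.card P = 4 := by
    have := CfsgLib.SymSylow.NilPerm.card_sylow_alt (show 2 ≤ n by omega) P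
    rcases hn with rfl | rfl
    · rw [CfsgLib.SymSylow.NilPerm.twoExp_four] at this; omega
    · rw [CfsgLib.SymSylow.NilPerm.twoExp_small.1] at this; omega
  have hexp : ∀ x : (P : Subgroup (alternatingGroup (Fin n))), x * x = 1 := by
    intro x
    have h4 : x ^ 4 = 1 := by rw [← hc]; exact pow_card_eq_one'
    refine Subtype.ext (Subtype.ext ?_)
    show ((x : alternatingGroup (Fin n)) : Perm (Fin n)) * x = 1
    have h4' : ((x : alternatingGroup (Fin n)) : Perm (Fin n)) ^ 4 = 1 := by
      have := congrArg Subtype.val (congrArg Subtype.val h4)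
      simpa using this
    have hsg : sign ((x : alternatingGroup (Fin n)) : Perm (Fin n)) = 1 := (x : alternatingGroup (Fin n)).2
    generalize ((x : alternatingGroup (Fin n)) : Perm (Fin n)) = g at h4' hsg ⊢
    revert g
    rcases hn with rfl | rfl <;> decide +kernel
  have hcomm : ∀ x y : (P : Subgroup (alternatingGroup (Fin n))), x * y = y * x := fun x y => by
    have := hexp (x * y)
    calc x * y = x * (x * y * (x * y)) * y := by rw [this, mul_one]
      _ = x * x * (y * x) * (y * y) := by group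
      _ = y * x := by rw [hexp, hexp, one_mul, mul_one]
  haveI : Nontrivial (P : Subgroup (alternatingGroup (Fin n))) := Finite.one_lt_card_iff_nontrivial.1 (by
    show 1 < Nat.card P
    omega)
  obtain ⟨a, ha⟩ := exists_ne (1 : (P : Subgroup (alternatingGroup (Fin n))))
  have hoa : Nat.card (Subgroup.zpowers a) = 2 := by
    rw [Nat.card_zpowers]; exact orderOf_eq_prime (by rw [pow_two]; exact hexp a) ha
  obtain ⟨b, hb⟩ : ∃ b, b ∉ Subgroup.zpowers a := by
    by_contra h
    push Not at h
    rw [(Subgroup.eq_top_iff' _).2 h, Subgroup.card_top] at hoa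
    change Nat.card P = 2 at hoa
    omega
  have hb1 : b ≠ 1 := fun h => hb (h ▸ one_mem _)
  have hob : Nat.card (Subgroup.zpowers b) = 2 := by
    rw [Nat.card_zpowers]; exact orderOf_eq_prime (by rw [pow_two]; exact hexp b) hb1
  have hinf : Subgroup.zpowers a ⊓ Subgroup.zpowers b = ⊥ := by
    refine Subgroup.eq_bot_of_card_eq _ ?_
    have h1 := Subgroup.card_dvd_of_le (inf_le_right : Subgroup.zpowers a ⊓ Subgroup.zpowers b ≤ _)
    rw [hob] at h1
    rcases (Nat.dvd_prime Nat.prime_two).1 h1 with h | h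
    · exact h
    · exfalso
      refine hb ?_
      have := Subgroup.eq_of_le_of_card_ge (inf_le_right : Subgroup.zpowers a ⊓ Subgroup.zpowers b ≤ _) (by omega)
      exact (this.ge (Subgroup.mem_zpowers b)).1
  refine ⟨Subgroup.zpowers a, Subgroup.zpowers b, ?_, ?_, fun _ _ _ _ => hcomm _ _, hinf, ?_⟩
  · rwa [Ne, Subgroup.zpowers_eq_bot]
  · rwa [Ne, Subgroup.zpowers_eq_bot]
  · refine Subgroup.eq_top_of_card_eq _ ?_
    have hA := Subgroup.card_dvd_of_le (le_sup_left : Subgroup.zpowers a ≤ Subgroup.zpowers a ⊔ Subgroup.zpowers b)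
    have hT := Subgroup.card_subgroup_dvd_card (Subgroup.zpowers a ⊔ Subgroup.zpowers b)
    rw [hoa] at hA
    change _ = Nat.card P
    change _ ∣ Nat.card P at hT
    rw [hc] at hT ⊢
    have hle := Nat.le_of_dvd (by norm_num) hT
    obtain ⟨k, hk⟩ := hA
    have hk' : k ≤ 2 := by omega
    have hpos : 0 < Nat.card (Subgroup.zpowers a ⊔ Subgroup.zpowers b : Subgroup _) := Nat.card_pos
    interval_cases k
    · omega
    · exfalso
      refine hb ?_
      rw [Subgroup.eq_of_le_of_card_ge (le_sup_left : Subgroup.zpowers a ≤ Subgroup.zpowers a ⊔ Subgroup.zpowers b) (by omega)]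
      exact Subgroup.mem_sup_right (Subgroup.mem_zpowers b)
    · omega

/-- The exponents of the blocks on more than two points. -/
def blockExp (n : ℕ) (i : Fin (n / 4).bitIndices.length) : ℕ := (n / 4).bitIndices.get i + 2

theorem sum_blocks (n : ℕ) : ∑ i, 2 ^ blockExp n i = 4 * (n / 4) := by
  have h := Nat.sum_map_two_pow_bitIndices (n / 4)
  rw [← Fin.sum_univ_fun_getElem] at h
  calc ∑ i, 2 ^ blockExp n i = ∑ i : Fin (n / 4).bitIndices.length, 4 * 2 ^ (n / 4).bitIndices[i.1] :=
        Finset.sum_congr rfl fun i _ => by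
          show 2 ^ ((n / 4).bitIndices[i.1] + 2) = _
          rw [pow_add]; ring
    _ = 4 * (n / 4) := by rw [← Finset.mul_sum, h]

theorem bits_split (n : ℕ) :
    n.bitIndices.length = (n / 4).bitIndices.length + (n % 4).bitIndices.length := by
  obtain ⟨k, hk⟩ : ∃ k, n = 4 * k ∨ n = 4 * k + 1 ∨ n = 4 * k + 2 ∨ n = 4 * k + 3 := ⟨n / 4, by omega⟩
  rcases hk with rfl | rfl | rfl | rfl
  · rw [show 4 * k / 4 = k by omega, show 4 * k % 4 = 0 by omega, show 4 * k = 2 * (2 * k) by ring]; simp
  · rw [show (4 * k + 1) / 4 = k by omega, show (4 * k + 1) % 4 = 1 by omega,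
      show 4 * k + 1 = 2 * (2 * k) + 1 by ring]; simp
  · rw [show (4 * k + 2) / 4 = k by omega, show (4 * k + 2) % 4 = 2 by omega,
      show 4 * k + 2 = 2 * (2 * k + 1) by ring, show (2 : ℕ) = 2 * 1 by rfl, Nat.bitIndices_two_mul,
      Nat.bitIndices_two_mul_add_one, Nat.bitIndices_two_mul]
    simp
  · rw [show (4 * k + 3) / 4 = k by omega, show (4 * k + 3) % 4 = 3 by omega,
      show 4 * k + 3 = 2 * (2 * k + 1) + 1 by ring, show (3 : ℕ) = 2 * 1 + 1 by rfl]
    simp only [Nat.bitIndices_two_mul_add_one, List.length_cons, List.length_map, Nat.bitIndices_one]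
    simp

theorem twoExp_blocks (n : ℕ) : (∑ i, twoExp (2 ^ blockExp n i)) + twoExp (n % 4) = twoExp n := by
  have h1 := twoExp_add_bits n
  have h2 := twoExp_add_bits (n % 4)
  have h3 := bits_split n
  have h4 : (∑ i, twoExp (2 ^ blockExp n i)) + (n / 4).bitIndices.length = 4 * (n / 4) := by
    rw [← sum_blocks n, ← Finset.sum_congr rfl fun i _ => twoExp_two_pow (blockExp n i), Finset.sum_add_distrib]
    simp
  omega

theorem sign_sigmaCongr {ι : Type} [Fintype ι] [DecidableEq ι] {β : ι → Type} [∀ i, Fintype (β i)]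
    [∀ i, DecidableEq (β i)] (f : ∀ i, Perm (β i)) :
    sign (Equiv.Perm.sigmaCongrRightHom β f) = ∏ i, sign (f i) := by
  have h : (sign : Perm (Σ i, β i) →* ℤˣ).comp (Equiv.Perm.sigmaCongrRightHom β) =
      prodSign (fun i => (sign : Perm (β i) →* ℤˣ)) := by
    refine MonoidHom.ext fun g => ?_
    suffices hmem : g ∈ MonoidHom.eqLocus
        ((sign : Perm (Σ i, β i) →* ℤˣ).comp (Equiv.Perm.sigmaCongrRightHom β))
        (prodSign (fun i => (sign : Perm (β i) →* ℤˣ))) from hmem
    refine Subgroup.pi_mem_of_mulSingle_mem g fun i => ?_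
    generalize g i = σ
    show sign (Equiv.Perm.sigmaCongrRightHom β (Pi.mulSingle i σ)) = _
    rw [prodSign_single]
    induction σ using swap_induction_on with
    | one => simp
    | swap_mul σ x y hxy ih =>
      rw [Pi.mulSingle_mul, map_mul, map_mul, ih, map_mul, sign_swap hxy]
      congr 1
      have e : Equiv.Perm.sigmaCongrRightHom β (Pi.mulSingle i (swap x y)) = swap ⟨i, x⟩ ⟨i, y⟩ := by
        refine Equiv.ext fun p => ?_
        obtain ⟨j, v⟩ := p
        show (⟨j, (Pi.mulSingle i (swap x y) : ∀ k, Perm (β k)) j v⟩ : Σ k, β k) = _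
        by_cases hj : j = i
        · subst hj
          rw [Pi.mulSingle_eq_same]
          by_cases hvx : v = x
          · subst hvx; rw [swap_apply_left, swap_apply_left]
          · by_cases hvy : v = y
            · subst hvy; rw [swap_apply_right, swap_apply_right]
            · rw [swap_apply_of_ne_of_ne hvx hvy, swap_apply_of_ne_of_ne (by simp [hvx]) (by simp [hvy])]
        · rw [Pi.mulSingle_eq_of_ne hj, Perm.one_apply, swap_apply_of_ne_of_ne (fun e => hj (congrArg Sigma.fst e))
            (fun e => hj (congrArg Sigma.fst e))]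
      rw [e, sign_swap (by simp [hxy])]
  have := DFunLike.congr_fun h f
  rwa [prodSign_apply] at this

section model

variable (n : ℕ)

/-- The Sylow 2-subgroup on the remaining points. -/
noncomputable def restSub : Subgroup (Perm (Fin (n % 4))) := (default : Sylow 2 (Perm (Fin (n % 4))))

theorem card_restSub : Nat.card (restSub n) = 2 ^ twoExp (n % 4) :=
  CfsgLib.SymSylow.NilPerm.card_sylow_perm _ _

/-- The signs on the blocks. -/
noncomputable def blockSign (i : Fin (n / 4).bitIndices.length) : tower (blockExp n i) →* ℤˣ :=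
  (sign : Perm (Fin (2 ^ blockExp n i)) →* ℤˣ).comp (tower (blockExp n i)).subtype

/-- All the blocks. -/
abbrev Blocks := ∀ i : Fin (n / 4).bitIndices.length, tower (blockExp n i)

/-- The model. -/
noncomputable def model : Blocks n × restSub n →* Perm (Fin n) :=
  (((Fintype.equivFinOfCardEq (α := (Σ i, Fin (2 ^ blockExp n i)) ⊕ Fin (n % 4)) (n := n) (by
      rw [Fintype.card_sum, Fintype.card_sigma, Fintype.card_fin]
      simp only [Fintype.card_fin]
      rw [sum_blocks]; omega)).permCongrHom.toMonoidHom.comp (sumCongrHom _ _)).comp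
    (((Equiv.Perm.sigmaCongrRightHom _).comp
      (MonoidHom.piMap fun i => (tower (blockExp n i)).subtype)).prodMap (restSub n).subtype))

theorem model_injective : Function.Injective (model n) := by
  refine (((Fintype.equivFinOfCardEq (α := (Σ i, Fin (2 ^ blockExp n i)) ⊕ Fin (n % 4)) (n := n) (by
      rw [Fintype.card_sum, Fintype.card_sigma, Fintype.card_fin]
      simp only [Fintype.card_fin]
      rw [sum_blocks]; omega)).permCongrHom.injective).comp sumCongrHom_injective).comp ?_
  intro a b h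
  refine Prod.ext (funext fun i => Subtype.ext ?_) (Subtype.ext (congrArg Prod.snd h :))
  exact congrFun (Equiv.Perm.sigmaCongrRightHom_injective (congrArg Prod.fst h :)) i

theorem sign_model (x : Blocks n × restSub n) :
    sign (model n x) = prodSign (blockSign n) x.1 * sign (x.2 : Perm (Fin (n % 4))) := by
  show sign (Equiv.permCongr _ (Equiv.sumCongr _ _)) = _
  rw [sign_permCongr, sign_sumCongr, prodSign_apply]
  congr 1
  exact sign_sigmaCongr (fun i => ((x.1 i : tower (blockExp n i)) : Perm (Fin (2 ^ blockExp n i))))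

theorem blockSign_odd (i : Fin (n / 4).bitIndices.length) : ∃ t, blockSign n i t = -1 := by
  obtain ⟨t, ht, hts⟩ := (goodBlock_tower (show 2 ≤ blockExp n i from Nat.le_add_left _ _)).odd_mem
  exact ⟨⟨t, ht⟩, hts⟩

theorem blockSign_data (i : Fin (n / 4).bitIndices.length) :
    (∀ A B : Subgroup (tower (blockExp n i)), A ⊔ B = ⊤ → (∀ a ∈ A, ∀ b ∈ B, a * b = b * a) →
      A ≤ Subgroup.center _ ∨ B ≤ Subgroup.center _) ∧
    ∃ z : tower (blockExp n i), z ≠ 1 ∧ (∀ x ∈ Subgroup.center _, x = 1 ∨ x = z) ∧ blockSign n i z = 1 ∧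
      ∃ a b : tower (blockExp n i), z = ⁅a, b⁆ := by
  obtain ⟨-, hsplit, z, ⟨hzQ, hz1, -, -, hzu⟩, hzs, a, ha, b, hb, hab⟩ :=
    goodBlock_tower (show 2 ≤ blockExp n i from Nat.le_add_left _ _)
  refine ⟨fun A B hAB hc => ?_, ⟨z, hzQ⟩, fun h => hz1 (congrArg Subtype.val h), fun x hx => ?_, hzs,
    ⟨a, ha⟩, ⟨b, hb⟩, Subtype.ext hab⟩
  · rcases hsplit (A.map (tower _).subtype) (B.map (tower _).subtype)
      (by rw [← Subgroup.map_sup, hAB, ← MonoidHom.range_eq_map, Subgroup.range_subtype])
      (by rintro _ ⟨p, hp, rfl⟩ _ ⟨q, hq, rfl⟩; exact congrArg Subtype.val (hc p hp q hq)) with h | h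
    · exact Or.inl fun p hp => Subgroup.mem_center_iff.2 fun g => Subtype.ext (h _ ⟨p, hp, rfl⟩ g g.2).symm
    · exact Or.inr fun p hp => Subgroup.mem_center_iff.2 fun g => Subtype.ext (h _ ⟨p, hp, rfl⟩ g g.2).symm
  · rcases hzu x x.2 (fun g hg => (congrArg Subtype.val (Subgroup.mem_center_iff.1 hx ⟨g, hg⟩)).symm) with h | h
    · exact Or.inl (Subtype.ext h)
    · exact Or.inr (Subtype.ext h)

theorem bits_pos {n : ℕ} (hn : 4 ≤ n) : 0 < (n / 4).bitIndices.length := by
  by_contra h
  have h0 : (n / 4).bitIndices = [] := List.length_eq_zero_iff.1 (by omega)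
  have := Nat.sum_map_two_pow_bitIndices (n / 4)
  rw [h0] at this
  simp at this
  omega

theorem bits_one_iff {n : ℕ} (hn : 4 ≤ n) :
    (n / 4).bitIndices.length = 1 ↔ ¬ ∀ r : ℕ, 4 * (n / 4) ≠ 2 ^ r := by
  push Not
  constructor
  · intro h
    obtain ⟨a, ha⟩ := List.length_eq_one_iff.1 h
    have := Nat.sum_map_two_pow_bitIndices (n / 4)
    rw [ha] at this
    refine ⟨a + 2, ?_⟩
    simp at this
    rw [pow_add, this]; ring
  · rintro ⟨r, hr⟩
    have h2 : 2 ≤ r := by
      by_contra h
      interval_cases r <;> omega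
    obtain ⟨a, rfl⟩ : ∃ a, r = a + 2 := ⟨r - 2, by omega⟩
    rw [pow_add] at hr
    rw [show n / 4 = 2 ^ a by omega, Nat.bitIndices_two_pow]
    rfl

/-- The sign on the model. -/
noncomputable def modelSign : Blocks n × restSub n →* ℤˣ := (sign : Perm (Fin n) →* ℤˣ).comp (model n)

theorem sylow_equiv_ker {n : ℕ} (hn : 4 ≤ n) (P : Sylow 2 (alternatingGroup (Fin n))) :
    Nonempty ((modelSign n).ker ≃* (P : Subgroup (alternatingGroup (Fin n)))) := by
  classical
  let g : (modelSign n).ker →* alternatingGroup (Fin n) :=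
    ((model n).comp (modelSign n).ker.subtype).codRestrict _ fun x => mem_alternatingGroup.2 x.2
  have hg : Function.Injective g := fun a b h => Subtype.ext (model_injective n (congrArg Subtype.val h))
  have hcard : 2 * Nat.card (modelSign n).ker = 2 ^ twoExp n := by
    have hsurj : Function.Surjective (modelSign n) := by
      intro u
      rcases Int.units_eq_one_or u with rfl | rfl
      · exact ⟨1, map_one _⟩
      · obtain ⟨t, ht⟩ := blockSign_odd n ⟨0, bits_pos hn⟩
        refine ⟨(Pi.mulSingle ⟨0, bits_pos hn⟩ t, 1), ?_⟩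
        show sign (model n _) = -1
        rw [sign_model, prodSign_single, ht, OneMemClass.coe_one, map_one, mul_one]
    have h := Subgroup.card_mul_index (modelSign n).ker
    rw [Subgroup.index_ker, MonoidHom.range_eq_top.2 hsurj, Subgroup.card_top, Nat.card_eq_fintype_card (α := ℤˣ),
      Fintype.card_units_int] at h
    rw [mul_comm, h, Nat.card_prod, Nat.card_pi, card_restSub]
    simp only [card_tower]
    rw [Finset.prod_pow_eq_pow_sum, ← pow_add, twoExp_blocks]
  have hc : Nat.card g.range = 2 ^ (Nat.card (alternatingGroup (Fin n))).factorization 2 := by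
    have h2 := CfsgLib.SymSylow.NilPerm.card_sylow_alt (show 2 ≤ n by omega) P
    rw [← Nat.card_congr (MonoidHom.ofInjective hg).toEquiv, ← P.card_eq_multiplicity]
    omega
  obtain ⟨x, hx⟩ := MulAction.exists_smul_eq (alternatingGroup (Fin n)) (Sylow.ofCard g.range hc) P
  refine ⟨(MonoidHom.ofInjective hg).trans ?_⟩
  rw [← hx]
  exact Sylow.equivSMul (Sylow.ofCard g.range hc) x

theorem rest_trivial {n : ℕ} (h : n % 4 ≤ 1) (x : restSub n) : x = 1 := by
  haveI : Subsingleton (Fin (n % 4)) := Fin.subsingleton_iff_le_one.2 h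
  exact Subtype.ext (Subsingleton.elim _ _)

theorem rest_two {n : ℕ} (h : 2 ≤ n % 4) :
    ∃ ρ : restSub n, sign (ρ : Perm (Fin (n % 4))) = -1 ∧ ∀ x : restSub n, x = 1 ∨ x = ρ := by
  have hr : n % 4 < 4 := Nat.mod_lt _ (by norm_num)
  have hc : Nat.card (restSub n) = 2 := by
    rw [card_restSub]
    have e2 : twoExp 2 = 1 := (CfsgLib.SymSylow.NilPerm.twoExp_four_two 0).trans (by simp [twoExp_zero])
    have e3 : twoExp 3 = 1 := (CfsgLib.SymSylow.NilPerm.twoExp_four_three 0).trans (by simp [twoExp_zero])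
    obtain h' | h' : n % 4 = 2 ∨ n % 4 = 3 := by omega
    · rw [h', e2]; rfl
    · rw [h', e3]; rfl
  haveI : Nontrivial (restSub n) := Finite.one_lt_card_iff_nontrivial.1 (by omega)
  obtain ⟨ρ, hρ⟩ := exists_ne (1 : restSub n)
  refine ⟨ρ, ?_, fun x => ?_⟩
  · have h2 : (ρ : Perm (Fin (n % 4))) * ρ = 1 := by
      have := pow_card_eq_one' (x := ρ)
      rw [hc, pow_two] at this
      exact congrArg Subtype.val this
    have h1 : (ρ : Perm (Fin (n % 4))) ≠ 1 := fun e => hρ (Subtype.ext e)
    generalize (ρ : Perm (Fin (n % 4))) = g at h2 h1 ⊢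
    obtain h' | h' : n % 4 = 2 ∨ n % 4 = 3 := by omega
    · revert g; rw [h']; decide +kernel
    · revert g; rw [h']; decide +kernel
  · obtain ⟨y, hy, huniq⟩ := (Nat.card_eq_two_iff' (1 : restSub n)).1 hc
    rcases eq_or_ne x 1 with h' | h'
    · exact Or.inl h'
    · exact Or.inr ((huniq x h').trans (huniq ρ hρ).symm)

/-- **Decomposability.** -/
theorem main (hn : 4 ≤ n) (P : Sylow 2 (alternatingGroup (Fin n))) :
    (∃ S₁ S₂ : Subgroup (alternatingGroup (Fin n)), S₁ ≠ ⊥ ∧ S₂ ≠ ⊥ ∧
        Cfsg.IsInternalDirectProduct S₁ S₂ (P : Subgroup (alternatingGroup (Fin n)))) ↔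
      (n = 4 ∨ n = 5 ∨ ((n % 4 = 2 ∨ n % 4 = 3) ∧ ∀ r : ℕ, 4 * (n / 4) ≠ 2 ^ r)) := by
  classical
  haveI : Fact (Nat.Prime 2) := ⟨Nat.prime_two⟩
  rw [internal_iff]
  by_cases h45 : n = 4 ∨ n = 5
  · exact ⟨fun _ => h45.elim Or.inl fun h => Or.inr (Or.inl h), fun _ => decomposable_small h45 P⟩
  push Not at h45
  obtain ⟨e⟩ := sylow_equiv_ker hn P
  rw [← decomposable_congr e]
  have hbp : ∀ i, IsPGroup 2 (tower (blockExp n i)) := fun i => IsPGroup.of_card (card_tower _)
  rcases Nat.lt_or_ge (n % 4) 2 with hr | hr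
  · -- the rest is trivial
    have hnot : ¬ (n = 4 ∨ n = 5 ∨ ((n % 4 = 2 ∨ n % 4 = 3) ∧ ∀ r : ℕ, 4 * (n / 4) ≠ 2 ^ r)) := by omega
    have hsgn : ∀ x, modelSign n x = prodSign (blockSign n) x.1 := fun x => by
      show sign (model n x) = _
      rw [sign_model, rest_trivial (by omega) x.2, OneMemClass.coe_one, map_one, mul_one]
    let φ : (modelSign n).ker ≃* (prodSign (blockSign n)).ker :=
      { toFun := fun x => ⟨x.1.1, by rw [MonoidHom.mem_ker, ← hsgn]; exact x.2⟩
        invFun := fun x => ⟨(x.1, 1), by rw [MonoidHom.mem_ker, hsgn]; exact x.2⟩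
        left_inv := fun x => Subtype.ext (Prod.ext rfl (rest_trivial (by omega) x.1.2).symm)
        right_inv := fun x => rfl
        map_mul' := fun x y => rfl }
    rw [decomposable_congr φ, iff_false_right hnot]
    rcases Nat.lt_or_ge (n / 4).bitIndices.length 2 with hl | hl
    · have hlen : (n / 4).bitIndices.length = 1 := by have := bits_pos hn; omega
      haveI : Subsingleton (Fin (n / 4).bitIndices.length) := Fin.subsingleton_iff_le_one.2 (by omega)
      set i₀ : Fin (n / 4).bitIndices.length := ⟨0, bits_pos hn⟩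
      have ha : 3 ≤ blockExp n i₀ := by
        have h4 := sum_blocks n
        rw [Fintype.sum_subsingleton _ i₀] at h4
        by_contra h
        have h2 : 2 ≤ blockExp n i₀ := Nat.le_add_left _ _
        rw [show blockExp n i₀ = 2 by omega] at h4
        omega
      obtain ⟨z, hz⟩ := even_center_tower ha
      have hsingle : ∀ (x : Blocks n), x = Pi.mulSingle i₀ (x i₀) := fun x => funext fun i => by
        rw [Subsingleton.elim i i₀]; simp
      have hks : ∀ x : Blocks n, prodSign (blockSign n) x = sign (x i₀ : Perm (Fin (2 ^ blockExp n i₀))) := fun x => by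
        rw [prodSign_apply, Fintype.prod_subsingleton _ i₀]; rfl
      have hG : IsPGroup 2 (prodSign (blockSign n)).ker := by
        refine IsPGroup.to_subgroup ?_ _
        refine IsPGroup.of_card (n := ∑ i, twoExp (2 ^ blockExp n i)) ?_
        rw [Nat.card_pi, ← Finset.prod_pow_eq_pow_sum]
        exact Finset.prod_congr rfl fun i _ => card_tower _
      by_cases hzK : ∃ w : (prodSign (blockSign n)).ker, ((w : Blocks n) i₀ : Perm (Fin (2 ^ blockExp n i₀))) = z
      · obtain ⟨w, hw⟩ := hzK
        refine not_decomposable_of_center (p := 2) hG w fun x hx => ?_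
        rcases hz ((x : Blocks n) i₀ : Perm (Fin (2 ^ blockExp n i₀))) ((x : Blocks n) i₀).2
          ((hks _).symm.trans x.2) (fun g hg hgs => by
            have hgK : Pi.mulSingle i₀ (⟨g, hg⟩ : tower (blockExp n i₀)) ∈ (prodSign (blockSign n)).ker := by
              rw [MonoidHom.mem_ker, hks, Pi.mulSingle_eq_same]; exact hgs
            have h5 := congrArg (fun v : (prodSign (blockSign n)).ker => ((v : Blocks n) i₀ : Perm (Fin (2 ^ blockExp n i₀))))
              (Subgroup.mem_center_iff.1 hx ⟨_, hgK⟩)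
            simpa using h5.symm) with h | h
        · refine Or.inl (Subtype.ext ((hsingle _).trans ?_))
          rw [show (x : Blocks n) i₀ = 1 from Subtype.ext h, Pi.mulSingle_one]; rfl
        · exact Or.inr (Subtype.ext (by
            rw [hsingle (x : Blocks n), hsingle (w : Blocks n),
              show (x : Blocks n) i₀ = (w : Blocks n) i₀ from Subtype.ext (h.trans hw.symm)]))
      · refine not_decomposable_of_center (p := 2) hG 1 fun x hx => Or.inl ?_
        rcases hz ((x : Blocks n) i₀ : Perm (Fin (2 ^ blockExp n i₀))) ((x : Blocks n) i₀).2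
          ((hks _).symm.trans x.2) (fun g hg hgs => by
            have hgK : Pi.mulSingle i₀ (⟨g, hg⟩ : tower (blockExp n i₀)) ∈ (prodSign (blockSign n)).ker := by
              rw [MonoidHom.mem_ker, hks, Pi.mulSingle_eq_same]; exact hgs
            have h5 := congrArg (fun v : (prodSign (blockSign n)).ker => ((v : Blocks n) i₀ : Perm (Fin (2 ^ blockExp n i₀))))
              (Subgroup.mem_center_iff.1 hx ⟨_, hgK⟩)
            simpa using h5.symm) with h | h
        · refine Subtype.ext ((hsingle _).trans ?_)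
          rw [show (x : Blocks n) i₀ = 1 from Subtype.ext h, Pi.mulSingle_one]; rfl
        · exact absurd ⟨x, h⟩ hzK
    · haveI : Nontrivial (Fin (n / 4).bitIndices.length) := Fin.nontrivial_iff_two_le.2 hl
      exact not_decomposable_ker (blockSign n) (blockSign_odd n) (fun i => (blockSign_data n i).1) fun i => by
        obtain ⟨z, -, hz⟩ := (blockSign_data n i).2
        exact ⟨z, hz⟩
  · -- the rest has order two
    obtain ⟨ρ, hρ, hall⟩ := rest_two hr
    have hsgn : ∀ x, modelSign n x = prodSign (blockSign n) x.1 * sign (x.2 : Perm (Fin (n % 4))) := fun x =>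
      sign_model n x
    let f : (modelSign n).ker →* Blocks n := (MonoidHom.fst _ _).comp (modelSign n).ker.subtype
    have hf : Function.Bijective f := by
      constructor
      · rw [injective_iff_map_eq_one]
        rintro ⟨⟨a, r⟩, hx⟩ h
        have ha : a = 1 := h
        subst ha
        rw [MonoidHom.mem_ker, hsgn, map_one, one_mul] at hx
        rcases hall r with rfl | rfl
        · rfl
        · rw [hρ] at hx; exact absurd hx (by decide)
      · intro a
        rcases Int.units_eq_one_or (prodSign (blockSign n) a) with h | h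
        · exact ⟨⟨(a, 1), by rw [MonoidHom.mem_ker, hsgn]; simp [h]⟩, rfl⟩
        · exact ⟨⟨(a, ρ), by rw [MonoidHom.mem_ker, hsgn, h, hρ]; rfl⟩, rfl⟩
    rw [decomposable_congr (MulEquiv.ofBijective f hf)]
    constructor
    · intro hd
      refine Or.inr (Or.inr ⟨by omega, ?_⟩)
      by_contra hpow
      have hlen := (bits_one_iff hn).2 hpow
      haveI : Subsingleton (Fin (n / 4).bitIndices.length) := Fin.subsingleton_iff_le_one.2 (by omega)
      set i₀ : Fin (n / 4).bitIndices.length := ⟨0, bits_pos hn⟩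
      obtain ⟨z, -, hz, -⟩ := (blockSign_data n i₀).2
      have hG : IsPGroup 2 (Blocks n) := IsPGroup.of_card (n := ∑ i, twoExp (2 ^ blockExp n i)) (by
        rw [Nat.card_pi, ← Finset.prod_pow_eq_pow_sum]
        exact Finset.prod_congr rfl fun i _ => card_tower _)
      refine not_decomposable_of_center hG (Pi.mulSingle i₀ z) (fun x hx => ?_) hd
      rcases hz (x i₀) (Subgroup.mem_center_iff.2 fun g => by
        have := congrFun (Subgroup.mem_center_iff.1 hx (Pi.mulSingle i₀ g)) i₀
        simpa using this) with h | h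
      · exact Or.inl (funext fun i => by rw [Subsingleton.elim i i₀, h]; rfl)
      · exact Or.inr (funext fun i => by rw [Subsingleton.elim i i₀, h]; simp)
    · intro hcond
      obtain ⟨-, hpow⟩ : _ ∧ _ := (hcond.resolve_left h45.1).resolve_left h45.2
      have hl : 2 ≤ (n / 4).bitIndices.length := by
        have := bits_pos hn
        by_contra h
        exact (bits_one_iff hn).1 (by omega) hpow
      haveI : Nontrivial (Fin (n / 4).bitIndices.length) := Fin.nontrivial_iff_two_le.2 hl
      exact decomposable_pi fun i => by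
        obtain ⟨z, hz1, -⟩ := (blockSign_data n i).2
        exact ⟨z, 1, hz1⟩

end model

end CfsgLib.SymSylow.AltDecomp
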